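import Groth.Agent.Lead.SuppFactor.Thick
import Groth.Agent.L29.DCoh.Gen.PerfBuilt
import Groth.Agent.L29.DCoh.Gen.ZOn
import Groth.Agent.L29.DCoh.RHomQCoh
import Groth.Agent.L29.DCoh.ExtZeroD
import Groth.Agent.L29.BC.SupportPush
import Groth.Agent.Lead.PCProjBasic

/-!
Perfect ideals killing maps out of the structure sheaf into supported objects.
-/

set_option autoImplicit false
set_option linter.style.haveILetI false
set_option backward.defeqAttrib.useBackward true
set_option backward.isDefEq.respectTransparency false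
set_option backward.isDefEq.respectTransparency.types false

universe u

open CategoryTheory CategoryTheory.Limits CategoryTheory.Pretriangulated AlgebraicGeometry

attribute [local instance] HasDerivedCategory.standard

noncomputable section

namespace Groth.Lead.SuppFactor

open Groth.L29.DC Groth.L29.DC.Gen Groth.L29.Thick

variable {X : Scheme.{u}}

/-- a perfect object mapping to a perfect one killing a map into a supported object -/
theorem exists_killing [CompactSpace X] [QuasiSeparatedSpace X] (U : X.Opens) (hU : IsCompact (U : Set X))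
    {P H : DCoh.D X} (hP : DCoh.IsPerfect P) (hH : DCoh.IsQCohD H) (hHU : IsZero ((res U).obj H)) (f : P ⟶ H) :
    ∃ (I : DCoh.D X) (i : I ⟶ P), DCoh.IsPerfect I ∧ i ≫ f = 0 ∧ IsIso ((res U).map i) := by
  obtain ⟨G, hG, hGU, hgen⟩ := exists_perfect_generatorOn X U hU
  haveI := locallySmall_D X
  haveI : HasCoproducts.{u} (DCoh.D X) := hasCoproducts_D X
  haveI : HasColimitsOfShape (Discrete ℕ) (DCoh.D X) :=
    hasColimitsOfShape_of_equivalence (Discrete.equivalence (Equiv.ulift.{u} : ULift.{u} ℕ ≃ ℕ))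
  haveI : ∀ (Y : DCoh.D X) (n : ℤ), Small.{u} (G⟦n⟧ ⟶ Y) := fun Y n => inferInstance
  have hGq := PCQCoh.isQCohD_of_perfect hG
  let S : ObjectProperty (DCoh.D X) := fun L => DCoh.IsQCohD L ∧ IsZero ((res U).obj L)
  have hSsum : ∀ {ι : Type u} (K : ι → DCoh.D X) [HasCoproduct K], (∀ i, DCoh.IsQCohD (K i) ∧ IsZero ((res U).obj (K i))) →
      IsZero ((res U).obj (∐ K)) := fun {ι} K _ hK => by
    haveI : PreservesColimitsOfShape (Discrete ι) (res U) := (Gen.adj U).leftAdjoint_preservesColimits.preservesColimitsOfShape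
    rw [IsZero.iff_id_eq_zero]
    refine (isColimitOfPreserves (res U) (coproductIsCoproduct K)).hom_ext fun j => ?_
    exact (hK j.as).2.eq_of_src _ _
  obtain ⟨Y, a, b, hY, hab⟩ := exists_factor_map (fun P : DCoh.D X => DCoh.IsPerfect P)
    (fun T hT h₂ h₃ => (perfect_two_out_of_three hT).2.2 h₂ h₃) (fun Y hY => isPerfect_of_built hG hY)
    (fun Y k h => perfect_shift h k) S
    (fun Y hY {ι} K _ hK g => cpt_of_perfect hY K (fun i => (hK i).1) g)
    (fun n => ⟨isQCohD_shift hGq n, (isZero_res_iff U _).2 (zOn_shift U hGU n)⟩)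
    (fun {ι} K hK => ⟨QCohColim.isQCohD_coproduct K fun i => (hK i).1, hSsum K hK⟩)
    (fun T hT h₁ h₂ => ⟨isQCohD_third T hT h₁.1 h₂.1,
      Triangle.isZero₃_of_isZero₁₂ _ ((res U).map_distinguished _ hT) h₁.2 h₂.2⟩)
    (fun K hK => by
      let e : (∐ fun n : ULift.{u} ℕ => K n.down) ≅ ∐ K :=
        Sigma.whiskerEquiv (f := fun n : ULift.{u} ℕ => K n.down) (g := K) Equiv.ulift.{u} fun n => Iso.refl _
      exact ⟨isQCohD_of_iso e (QCohColim.isQCohD_coproduct (fun n : ULift.{u} ℕ => K n.down) fun n => (hK n.down).1),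
        (hSsum _ fun n => hK n.down).of_iso ((res U).mapIso e.symm)⟩)
    (fun L hL h => hgen L hL.1 ((isZero_res_iff U L).1 hL.2) h) hP ⟨hH, hHU⟩ f
  obtain ⟨I, i, d, hT⟩ := distinguished_cocone_triangle₁ a
  refine ⟨I, i, (perfect_two_out_of_three hT).2.2 hP (isPerfect_of_built hG hY), ?_, ?_⟩
  · have h0 : i ≫ a = 0 := comp_distTriang_mor_zero₁₂ _ hT
    rw [← hab, reassoc_of% h0, zero_comp]
  · have hYU : IsZero ((res U).obj Y) := by
      clear hab hT b a d
      induction hY with
      | gen n => exact (isZero_res_iff U _).2 (zOn_shift U hGU n)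
      | zero h => exact (res U).map_isZero h
      | ext T hT _ _ h₁ h₃ => exact Triangle.isZero₂_of_isZero₁₃ _ ((res U).map_distinguished _ hT) h₁ h₃
      | iso e _ h => exact h.of_iso ((res U).mapIso e.symm)
    exact (Triangle.isZero₃_iff_isIso₁ _ ((res U).map_distinguished _ hT)).1 hYU

end Groth.Lead.SuppFactor
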